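import Groth.Agent.AlgGrp25.FixAmple.Orbit
import Groth.Agent.AlgGrp25.AntiAff
import Groth.Agent.GrpSchLib.AntiAffineSmoothAny
import Groth.Agent.GrpSchLib.SmoothReduced
import Groth.Agent.CorrFin75.Basic
import Groth.Agent.AmpleVan.Pull
import Groth.Agent.AmpleX.QAGenerated
import Groth.Agent.AbTors.Deg
import Groth.Agent.H23.PicMul
import Mathlib.AlgebraicGeometry.Morphisms.FlatMono

/-! A group acting faithfully on a projective variety and fixing an ample class is affine. -/

universe u

open CategoryTheory Limits AlgebraicGeometry MonoidalCategory CartesianMonoidalCategory MonObj GrpObj TopologicalSpace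

set_option linter.style.haveILetI false
set_option backward.isDefEq.respectTransparency false
set_option backward.isDefEq.respectTransparency.types false

namespace Groth.Agent.AlgGrp25.FixAmple

open scoped Groth.Agent.H23.PicMul

variable {k : Type u} [Field k] [IsAlgClosed k] {M X : Over (Spec (CommRingCat.of k))} [GrpObj M]

theorem exists_isAmple (hX : RelProj.IsHProjective X.hom) : ∃ L : X.left.Modules, CohB1.IsAmple L := by
  haveI := CorrFin75.isProper_of_isHProjective hX
  haveI : CompactSpace X.left := QuasiCompact.compactSpace_of_compactSpace X.hom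
  obtain ⟨n, i, hi, -⟩ := hX
  obtain ⟨L, hL⟩ := AmpleVan.exists_ample_of_closedImmersion_projSpace (𝟙 (CohB1.ProjSpace n (ULift.{u} ℤ)))
  haveI : IsAffineHom (specULiftZIsTerminal.from (Spec (CommRingCat.of k))) := isAffineHom_of_isAffine _
  haveI : IsAffineHom (pullback.fst (CohB1.ProjSpace.toSpec n (ULift.{u} ℤ))
      (specULiftZIsTerminal.from (Spec (CommRingCat.of k)))) := MorphismProperty.pullback_fst (P := @IsAffineHom) _ _ inferInstance
  exact ⟨_, AbTors.isAmple_pullback_of_isAffineHom (i ≫ pullback.fst (CohB1.ProjSpace.toSpec n (ULift.{u} ℤ))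
    (specULiftZIsTerminal.from (Spec (CommRingCat.of k)))) hL⟩

/-- An anti-affine group acting on a projective variety and fixing an ample class acts trivially. -/
theorem trans_eq_id [IsProper X.hom] [IsIntegral X.left] [IsReduced M.left] [LocallyOfFiniteType M.hom]
    (hM : Function.Bijective M.hom.appTop) (a : AlgGrp.Action M X) {L : X.left.Modules} (hL : CohB1.IsAmple L)
    (hfix : ∀ g : Pt M, Nonempty ((Scheme.Modules.pullback (trans a g).left).obj L ≅ L)) (g : Pt M) :
    trans a g = 𝟙 X := by
  haveI : X.left.IsSeparated := ⟨by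
    rw [← terminal.comp_from X.hom]
    exact MorphismProperty.comp_mem @IsSeparated _ _ inferInstance Scheme.IsSeparated.isSeparated_terminal_from⟩
  haveI := LocallyOfFiniteType.jacobsonSpace X.hom
  have hpt : ∀ x : Pt X, im (x ≫ trans a g) = im x := by
    intro x
    by_contra hne
    have hc : IsClosed ({im (x ≫ trans a g)} : Set X.left) := ((pointEquivClosedPoint X.hom) ⟨sec (x ≫ trans a g), Over.w (x ≫ trans a g)⟩).2
    obtain ⟨n, s, hs, hsU, -⟩ := AmpleX.exists_finite_nhd hL (Set.finite_singleton (im x))
      (U := ⟨{im (x ≫ trans a g)}ᶜ, hc.isOpen_compl⟩) (Set.singleton_subset_iff.mpr (Ne.symm hne))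
    have hLn : PicF.IsInvertible (CohB1.tensorPow L (n + 1)) := InvX.isInvertible_tensorPow hL.1 _
    have hfixn : ∀ g' : Pt M, Nonempty ((Scheme.Modules.pullback (trans a g').left).obj (CohB1.tensorPow L (n + 1)) ≅
        CohB1.tensorPow L (n + 1)) := fun g' => by
      refine (H23.PicMul.cl_eq_iff).1 ?_
      show PicF.pullCl (trans a g').left (PicF.cl (CohB1.tensorPow L (n + 1))) = _
      rw [H23.PicMul.cl_tensorPow, H23.PicMul.pullCl_pow, show PicF.pullCl (trans a g').left (PicF.cl L) = PicF.cl L from
        H23.PicMul.cl_eq_iff.2 (hfix g')]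
    have hof : InvX.ofSect (InvX.one s) = s := sub_eq_zero.mp (AmpleX.eq_zero_of_one_eq_zero _ (by
      show InvX.one (InvX.ofSect (InvX.one s)) - InvX.one s = 0
      rw [InvX.one_ofSect, sub_self]))
    have h1 : ev hLn x (InvX.one s) ≠ 0 := by
      rw [ev_ne_zero_iff, hof]
      exact hs rfl
    have h2 := ev_ne_zero_trans a hLn hM hfixn g x (InvX.one s) h1
    rw [ev_ne_zero_iff, hof] at h2
    exact hsU h2 rfl
  refine Over.OverMorphism.ext ?_
  haveI : LocallyOfFiniteType ((trans a g).left ≫ X.hom) := by rw [Over.w]; infer_instance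
  refine ext_of_apply_eq X.hom Set.univ isClosed_univ.isLocallyClosed dense_univ (fun z _ hz => ?_) ?_
  · obtain ⟨x, rfl⟩ := exists_pt hz
    exact hpt x
  · rw [Over.w, Over.w]

/-- A group acting faithfully on a projective variety and fixing an ample class is affine. -/
theorem isAffine_of_fix (G : Over (Spec (CommRingCat.of k))) [GrpObj G] [LocallyOfFiniteType G.hom]
    [QuasiCompact G.hom] [IsIntegral X.left] [IsProper X.hom] (a : AlgGrp.Action G X)
    (hfaith : ∀ (T : Over (Spec (CommRingCat.of k))) (g : T ⟶ G),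
      lift (fst T X ≫ g) (snd T X) ≫ a.act = snd T X → g = toUnit T ≫ η[G])
    {L : X.left.Modules} (hL : CohB1.IsAmple L)
    (hfix : ∀ g : Pt G, Nonempty ((Scheme.Modules.pullback (trans a g).left).obj L ≅ L)) :
    IsAffine G.left := by
  obtain ⟨M, I, _, _, j, p, h⟩ := exists_antiAffPart G
  haveI := h.isMonHom_j; haveI := h.isClosedImmersion_j; haveI := h.isMonHom_p; haveI := h.flat_p
  haveI := h.surjective_p; haveI := h.affine; haveI := h.lft; haveI := h.qc; haveI := h.lft_M; haveI := h.qc_M
  haveI := GrpSchLib.AntiAffineSmooth.smooth (G := M) h.antiAffine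
  haveI : IsReduced M.left := GrpSchLib.isReduced_of_smooth_field M.hom
  haveI : Mono j := (Over.forget _).mono_of_mono_map (inferInstanceAs (Mono j.left))
  have htr : ∀ g : Pt M, trans (a.restrict j) g = trans a (g ≫ j) := fun g => by
    simp only [trans, AlgGrp.Action.lift_restrict_act, Category.assoc]
  have hg1 : ∀ g : Pt M, g = η[M] := by
    intro g
    have h1 : trans a (g ≫ j) = 𝟙 X := by
      rw [← htr]
      exact trans_eq_id h.antiAffine (a.restrict j) hL (fun g' => by rw [htr]; exact hfix _) g
    have h2 := hfaith _ (g ≫ j) (by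
      have := congrArg (fun q => snd (𝟙_ (Over (Spec (CommRingCat.of k)))) X ≫ q) h1
      simp only [trans, Category.comp_id, comp_lift_assoc] at this
      rwa [← Category.assoc _ (toUnit X), toUnit_unique (snd (𝟙_ _) X ≫ toUnit X) (fst _ X)] at this)
    rw [toUnit_unique (toUnit (𝟙_ _)) (𝟙 _), Category.id_comp, ← IsMonHom.one_hom j] at h2
    exact (cancel_mono j).mp h2
  haveI := LocallyOfFiniteType.jacobsonSpace M.hom
  have hz : ∀ z : M.left, z = im η[M] := by
    intro z
    obtain ⟨y, hy, hyc⟩ := nonempty_inter_closedPoints (Z := closure {z}) ⟨z, subset_closure rfl⟩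
      isClosed_closure.isLocallyClosed
    have hcl : ∀ w : M.left, IsClosed ({w} : Set M.left) → w = im η[M] := fun w hw => by
      obtain ⟨g, rfl⟩ := exists_pt hw
      rw [hg1 g]
    by_contra hne
    obtain ⟨w, hw, hwc⟩ := nonempty_inter_closedPoints (Z := ({im η[M]} : Set M.left)ᶜ)
      ⟨z, hne⟩ (by
        have : IsClosed ({im η[M]} : Set M.left) := ((pointEquivClosedPoint M.hom) ⟨sec η[M], Over.w η[M]⟩).2
        exact this.isOpen_compl.isLocallyClosed)
    exact hw (hcl w (mem_closedPoints_iff.mp hwc))
  obtain ⟨U, hU, hηU, -⟩ := exists_isAffineOpen_mem_and_subset (X := M.left) (x := im η[M]) (U := ⊤) trivial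
  have hUtop : U = ⊤ := top_unique fun y _ => (hz y) ▸ hηU
  haveI : IsAffine M.left := by
    haveI : IsAffine (⊤ : M.left.Opens).toScheme := hUtop ▸ hU
    exact IsAffine.of_isIso M.left.topIso.inv
  haveI : IsIso M.hom := by
    haveI : IsIso M.hom.appTop := (ConcreteCategory.isIso_iff_bijective _).mpr h.antiAffine
    have hn := Scheme.isoSpec_hom_naturality M.hom
    haveI : IsIso (M.hom ≫ (Spec (CommRingCat.of k)).isoSpec.hom) := by rw [← hn]; infer_instance
    exact IsIso.of_isIso_comp_right M.hom (Spec (CommRingCat.of k)).isoSpec.hom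
  haveI : Mono p := h.mono_p inferInstance
  haveI := LocallyOfFiniteType.isLocallyNoetherian I.hom
  haveI : LocallyOfFiniteType p.left := by
    have : LocallyOfFiniteType (p.left ≫ I.hom) := by rw [Over.w]; infer_instance
    exact locallyOfFiniteType_of_comp p.left I.hom
  haveI : Mono p.left := Over.mono_left_of_mono p
  haveI : IsOpenImmersion p.left := IsOpenImmersion.of_flat_of_mono p.left
  haveI : IsIso p.left := (isIso_iff_isOpenImmersion_and_epi_base _).mpr ⟨inferInstance,
    (TopCat.epi_iff_surjective _).mpr p.left.surjective⟩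
  exact IsAffine.of_isIso p.left

end Groth.Agent.AlgGrp25.FixAmple
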