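import Mathlib.LinearAlgebra.Matrix.Adjugate
import Mathlib.LinearAlgebra.Matrix.NonsingularInverse
import Mathlib.Tactic.LinearCombination
import Mathlib.Tactic.FieldSimp

/-! The scale invariant matrix attached to a projective frame. -/

open Matrix

namespace Groth.Agent.AlgGrp25.FixAmple

variable {ι R S : Type*} [Fintype ι] [DecidableEq ι] [CommRing R] [CommRing S]

/-- Row `i` of `E` times the `i`-th coordinate of `w` in the rows of `E` (up to `det E`). -/
def frameMat (E : Matrix ι ι R) (w : ι → R) : Matrix ι ι R := Matrix.diagonal (w ᵥ* E.adjugate) * E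

theorem frameMat_apply (E : Matrix ι ι R) (w : ι → R) (i j : ι) :
    frameMat E w i j = (w ᵥ* E.adjugate) i * E i j := Matrix.diagonal_mul _ _ _ _

theorem frameMat_map (f : R →+* S) (E : Matrix ι ι R) (w : ι → R) :
    (frameMat E w).map f = frameMat (E.map f) (f ∘ w) := by
  ext i j
  have h1 : f.mapMatrix E.adjugate = (f.mapMatrix E).adjugate := f.map_adjugate E
  have h2 := RingHom.map_vecMul f E.adjugate w i
  simp only [RingHom.mapMatrix_apply] at h1
  rw [Matrix.map_apply, frameMat_apply, frameMat_apply, map_mul, h2, h1]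
  rfl

theorem frameMat_scale (E : Matrix ι ι R) (w : ι → R) (a : ι → R) (b : R) :
    frameMat (Matrix.diagonal a * E) (b • w) = (b * ∏ l, a l) • frameMat E w := by
  ext i j
  rw [frameMat_apply, Matrix.diagonal_mul, Matrix.smul_apply, frameMat_apply, Matrix.adjugate_mul_distrib,
    Matrix.adjugate_diagonal, ← Matrix.vecMul_vecMul, Matrix.vecMul_diagonal, Matrix.smul_vecMul, Pi.smul_apply,
    smul_eq_mul, smul_eq_mul,
    ← Finset.mul_prod_erase Finset.univ a (Finset.mem_univ i)]
  ring

theorem frameMat_comb (E : Matrix ι ι R) (c : ι → R) :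
    frameMat E (c ᵥ* E) = Matrix.diagonal (E.det • c) * E := by
  rw [frameMat, Matrix.vecMul_vecMul, Matrix.mul_adjugate, Matrix.vecMul_smul, Matrix.vecMul_one]

theorem frameMat_one (c : ι → R) : frameMat (1 : Matrix ι ι R) c = Matrix.diagonal c := by
  rw [frameMat, Matrix.adjugate_one, Matrix.vecMul_one, Matrix.mul_one]

theorem det_frameMat_comb (E : Matrix ι ι R) (c : ι → R) :
    (frameMat E (c ᵥ* E)).det = (∏ i, E.det * c i) * E.det := by
  rw [frameMat_comb, Matrix.det_mul, Matrix.det_diagonal]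
  rfl

theorem frameMat_ratio {k : Type*} [Field k] (m : ι → ι × ι) (T : Matrix ι ι k) (ν : k) (hν : ν ≠ 0) :
    (∏ l, (ν • T) (m l).1 (m l).2) / (ν • T).det = (∏ l, T (m l).1 (m l).2) / T.det := by
  simp only [Matrix.smul_apply, smul_eq_mul, Matrix.det_smul]
  rw [Finset.prod_mul_distrib, Finset.prod_const, Finset.card_univ]
  exact mul_div_mul_left _ _ (pow_ne_zero _ hν)

/-- Two invertible matrices with the same degree `card ι` ratios are proportional. -/
theorem eq_smul_of_ratio {k : Type*} [Field k] [Nonempty ι] (T T₀ : Matrix ι ι k) (h : T.det ≠ 0) (h₀ : T₀.det ≠ 0)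
    (hr : ∀ m : ι → ι × ι, (∏ l, T (m l).1 (m l).2) / T.det = (∏ l, T₀ (m l).1 (m l).2) / T₀.det) :
    ∃ ν : k, T = ν • T₀ := by
  obtain ⟨p, q, hpq⟩ : ∃ p q, T₀ p q ≠ 0 := by
    by_contra hc
    push Not at hc
    exact h₀ (by rw [show T₀ = 0 from Matrix.ext hc, Matrix.det_zero])
  refine ⟨T p q / T₀ p q, Matrix.ext fun a b => ?_⟩
  obtain ⟨l₀⟩ := (inferInstance : Nonempty ι)
  have e0 := hr fun _ => (p, q)
  have e1 := hr (Function.update (fun _ => (p, q)) l₀ (a, b))
  simp only [Finset.prod_const] at e0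
  rw [← Finset.mul_prod_erase _ _ (Finset.mem_univ l₀), ← Finset.mul_prod_erase Finset.univ
    (fun l => T₀ (Function.update (fun _ => (p, q)) l₀ (a, b) l).1 (Function.update (fun _ => (p, q)) l₀ (a, b) l).2)
    (Finset.mem_univ l₀), Finset.prod_congr rfl fun l hl => by rw [Function.update_of_ne (Finset.ne_of_mem_erase hl)],
    Finset.prod_congr (s₁ := Finset.univ.erase l₀) (f := fun l => T₀ (Function.update (fun _ => (p, q)) l₀ (a, b) l).1
      (Function.update (fun _ => (p, q)) l₀ (a, b) l).2) rfl fun l hl => by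
        rw [Function.update_of_ne (Finset.ne_of_mem_erase hl)]] at e1
  simp only [Function.update_self, Finset.prod_const, Finset.card_erase_of_mem (Finset.mem_univ l₀)] at e1
  set n := (Finset.univ : Finset ι).card with hn
  have hn0 : n ≠ 0 := Finset.card_ne_zero.mpr Finset.univ_nonempty
  have hTp : T p q ≠ 0 := by
    intro h0
    rw [h0, zero_pow hn0, zero_div, eq_comm, div_eq_zero_iff] at e0
    exact e0.elim (fun h' => hpq (pow_eq_zero_iff hn0 |>.mp h')) h₀
  rw [← mul_pow_sub_one hn0, ← mul_pow_sub_one hn0] at e0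
  simp only [Matrix.smul_apply, smul_eq_mul]
  field_simp at e0 e1 ⊢
  have hA : T p q ^ (n - 1) * T₀.det ≠ 0 := mul_ne_zero (pow_ne_zero _ hTp) h₀
  apply mul_left_cancel₀ hA
  linear_combination T₀ p q * e1 - T₀ a b * e0

end Groth.Agent.AlgGrp25.FixAmple
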