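import Groth.Agent.AlgGrp25.FixAmple.Val
import Groth.Agent.AlgGrp25.FixAmple.Mat
import Groth.Prelude.Def_ChGrp

/-!
An anti-affine group acting on a proper variety and fixing an invertible module preserves the non-vanishing
loci of all its sections: the positions of a projective frame are locally regular, hence constant, functions.
-/

universe u

open CategoryTheory AlgebraicGeometry MonoidalCategory CartesianMonoidalCategory MonObj GrpObj TopologicalSpace

set_option linter.style.haveILetI false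
set_option backward.isDefEq.respectTransparency false
set_option backward.isDefEq.respectTransparency.types false

namespace Groth.Agent.AlgGrp25.FixAmple

variable {k : Type u} [Field k] {M X : Over (Spec (CommRingCat.of k))} [GrpObj M] (a : AlgGrp.Action M X)

/-- Translation by a rational point. -/
noncomputable abbrev trans (g : Pt M) : X ⟶ X := lift (toUnit X ≫ g) (𝟙 X) ≫ a.act

theorem comp_trans (y : Pt X) (g : Pt M) : y ≫ trans a g = lift g y ≫ a.act := by
  rw [trans, comp_lift_assoc, Category.comp_id, ← Category.assoc, toUnit_unique (y ≫ toUnit X) (𝟙 _),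
    Category.id_comp]

theorem comp_trans_inv (y : Pt X) (g : Pt M) : (y ≫ trans a g⁻¹) ≫ trans a g = y := by
  rw [comp_trans, comp_trans, ← AlgGrp.Action.lift_mul_act, mul_inv_cancel, AlgGrp.Action.lift_one_act]

theorem comp_orbit (g : Pt M) (o : Pt X) : g ≫ a.orbitMap o = o ≫ trans a g := by
  rw [comp_trans, AlgGrp.Action.comp_orbitMap, toUnit_unique (toUnit (𝟙_ (Over (Spec (CommRingCat.of k))))) (𝟙 _),
    Category.id_comp]

variable {L : X.left.Modules} (hL : PicF.IsInvertible L)

/-- A fixed class gives a linear map of sections compatible with translation. -/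
theorem exists_phi (g : Pt M) (θ : (Scheme.Modules.pullback (trans a g).left).obj L ≅ L) :
    ∃ φ : GS L →ₗ[k] GS L, ∀ y : Pt X, ∃ mu : k, mu ≠ 0 ∧ ∀ s, ev hL y (φ s) = mu * ev hL (y ≫ trans a g) s := by
  let t := (trans a g).left
  have hcst : ∀ c : k, t.app ⊤ (Coh.toGlobal X.hom c) = Coh.toGlobal X.hom c := fun c => by
    have h := Scheme.Hom.comp_appTop t X.hom
    rw [Over.w (trans a g)] at h
    exact (congrArg (fun q => q.hom ((Scheme.ΓSpecIso (CommRingCat.of k)).inv c)) h).symm
  let φ : GS L →ₗ[k] GS L :=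
    { toFun := fun s => (θ.hom.app ⊤ (InvX.pullElt t (U := ⊤) s) : Γ(L, ⊤))
      map_add' := fun s s' => by
        show θ.hom.app ⊤ (InvX.pullElt t (U := ⊤) (_ + _)) = _
        rw [show InvX.pullElt t (U := ⊤) ((show Γ(L, ⊤) from s) + (show Γ(L, ⊤) from s')) =
          InvX.pullElt t (U := ⊤) (show Γ(L, ⊤) from s) + InvX.pullElt t (U := ⊤) (show Γ(L, ⊤) from s') from
            map_add _ _ _]
        exact map_add _ _ _
      map_smul' := fun c s => by
        show θ.hom.app ⊤ (InvX.pullElt t (U := ⊤) (show Γ(L, ⊤) from c • s)) = _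
        rw [GS.smul_def, InvX.pullElt_smul]
        refine (Scheme.Modules.Hom.app_smul _ _ _).trans ?_
        rw [AModX.resR_self, hcst]
        exact (congrArg (· • _) (AModX.resR_self _)).symm }
  refine ⟨φ, fun y => ?_⟩
  obtain ⟨U, hU, e, he⟩ := InvX.exists_frame hL (im (y ≫ trans a g))
  have hV : im y ∈ t ⁻¹ᵁ U := hU
  have he' : InvX.IsFrame (θ.hom.app (t ⁻¹ᵁ U) (InvX.pullElt t e)) := (InvX.isFrame_pullElt t he).map_iso θ
  obtain ⟨c, hc, hce⟩ := ev_eq_smul hL he (y ≫ trans a g) hU
  obtain ⟨d, hd, hde⟩ := ev_eq_smul hL he' y hV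
  refine ⟨d⁻¹ * c, mul_ne_zero (inv_ne_zero hd) hc, fun s => ?_⟩
  have key : evU he' y hV (φ s) = evU he (y ≫ trans a g) hU s := by
    rw [evU_apply, evU_apply, ← val_comp y (trans a g) (le_refl (t ⁻¹ᵁ U)) hV]
    congr 1
    refine coord_eq he' _ le_rfl ?_
    show AModX.res L _ (θ.hom.app ⊤ (InvX.pullElt t (U := ⊤) s)) = _
    rw [AModX.res_self, ← AModX.app_res]
    have h1 := InvX.res_pullElt t (le_top : U ≤ ⊤) (show Γ(L, ⊤) from s)
    refine (congrArg (θ.hom.app (t ⁻¹ᵁ U)) h1).trans ?_
    conv_lhs => rw [coord_spec he U le_rfl (AModX.res L (le_top : U ≤ ⊤) s), AModX.res_self, InvX.pullElt_smul]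
    refine (Scheme.Modules.Hom.app_smul _ _ _).trans (congrArg (· • _) ?_)
    rw [Scheme.Hom.appLE_eq_app]
  rw [hde, hce, LinearMap.smul_apply, LinearMap.smul_apply, smul_eq_mul, smul_eq_mul] at key
  rw [_root_.mul_assoc, ← key, inv_mul_cancel_left₀ hd]

variable [IsAlgClosed k] [IsProper X.hom] [IsIntegral X.left]

include hL in
theorem surjective_phi (g : Pt M) {φ : GS L →ₗ[k] GS L}
    (h : ∀ y : Pt X, ∃ mu : k, mu ≠ 0 ∧ ∀ s, ev hL y (φ s) = mu * ev hL (y ≫ trans a g) s) :
    Function.Surjective φ := by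
  haveI := finite_GS hL
  refine (LinearMap.injective_iff_surjective).mp ((injective_iff_map_eq_zero φ).mpr fun s hs => ?_)
  refine eq_zero_of_ev hL s fun y => ?_
  obtain ⟨mu, hmu, hy⟩ := h (y ≫ trans a g⁻¹)
  have := hy s
  rw [comp_trans_inv, hs, map_zero, eq_comm] at this
  exact (mul_eq_zero.mp this).resolve_left hmu

/-- A projective frame of points through a given point. -/
theorem exists_frame_pts (x : Pt X) (hx : ev hL x ≠ 0) :
    ∃ (J : Type u) (_ : Fintype J) (_ : DecidableEq J) (i₀ : J) (p : J → Pt X) (s : J → GS L) (q : Pt X),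
      p i₀ = x ∧ (∀ i j, ev hL (p i) (s j) = if i = j then 1 else 0) ∧
      (∀ v : GS L, v = ∑ j, ev hL (p j) v • s j) ∧ ∀ j, ev hL q (s j) ≠ 0 := by
  classical
  haveI := finite_GS hL
  have hspan : Submodule.span k (Set.range fun y : Pt X => ev hL y) = ⊤ := by
    set W := Submodule.span k (Set.range fun y : Pt X => ev hL y) with hW
    have h0 : W.dualCoannihilator = ⊥ := by
      rw [eq_bot_iff]
      intro v hv
      exact eq_zero_of_ev hL v fun y =>
        (Submodule.mem_dualCoannihilator v).mp hv _ (Submodule.subset_span ⟨y, rfl⟩)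
    rw [← Subspace.dualCoannihilator_dualAnnihilator_eq (W := W), h0, Submodule.dualAnnihilator_bot]
  obtain ⟨b, hbsub, hxb, hbspan, hbind⟩ :=
    exists_linearIndepOn_id_extension ((linearIndepOn_singleton_iff k (v := (id : Module.Dual k (GS L) → Module.Dual k (GS L)))).mpr hx : LinearIndepOn k id {ev hL x})
      (Set.singleton_subset_iff.mpr ⟨x, rfl⟩ : {ev hL x} ⊆ Set.range fun y : Pt X => ev hL y)
  let B : Module.Basis b k (Module.Dual k (GS L)) := Module.Basis.mk hbind (by
    simp only [id, Subtype.range_coe_subtype, Set.ofPred_mem_eq]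
    exact hspan.ge.trans (Submodule.span_le.mpr hbspan))
  haveI : Finite b := hbind.setFinite.to_subtype
  haveI : Fintype b := Fintype.ofFinite b
  choose p hp using fun i : b => hbsub i.2
  have hB : ∀ i, B i = i.1 := fun i => Module.Basis.mk_apply _ _ i
  let s : b → GS L := fun j => (Module.evalEquiv k (GS L)).symm (B.coord j)
  have hs : ∀ (j : b) (f : Module.Dual k (GS L)), f (s j) = B.coord j f := fun j f =>
    (Module.apply_evalEquiv_symm_apply k (GS L) f (B.coord j))
  let i₀ : b := ⟨ev hL x, hxb rfl⟩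
  let p' : b → Pt X := Function.update p i₀ x
  have hp' : ∀ i, ev hL (p' i) = i.1 := fun i => by
    by_cases hi : i = i₀
    · subst hi; simp [p', i₀]
    · simp only [p', Function.update_of_ne hi]; exact hp i
  have hdel : ∀ i j, ev hL (p' i) (s j) = if i = j then 1 else 0 := fun i j => by
    rw [hs, hp', ← hB, Module.Basis.coord_apply, Module.Basis.repr_self, Finsupp.single_apply]
  let D : b → X.left.Opens := fun j => CohB1.genLocus L (InvX.ofSect (s j))
  obtain ⟨q, hq⟩ : ∃ q : Pt X, im q ∈ Finset.univ.inf D := by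
    refine exists_pt_mem ⟨genericPoint X.left, ?_⟩
    show genericPoint X.left ∈ Finset.univ.inf D
    refine Finset.inf_induction (p := fun O : X.left.Opens => genericPoint X.left ∈ O) trivial
      (fun _ h _ h' => ⟨h, h'⟩) fun j _ => ?_
    exact ((genericPoint_spec X.left).mem_open_set_iff (D j).2).mpr ⟨im (p' j), trivial,
      (ev_ne_zero_iff hL (p' j) (s j)).mp (by rw [hdel, if_pos rfl]; exact one_ne_zero)⟩
  refine ⟨b, inferInstance, inferInstance, i₀, p', s, q, Function.update_self _ _ _, hdel, fun v => ?_, fun j =>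
    (ev_ne_zero_iff hL q (s j)).mpr ((Finset.inf_le (f := D) (Finset.mem_univ j)) hq)⟩
  refine (Module.forall_dual_apply_eq_zero_iff k _).mp (fun f => ?_) |> sub_eq_zero.mp
  rw [map_sub, sub_eq_zero, map_sum]
  simp only [map_smul, smul_eq_mul, hs, Module.Basis.coord_apply, hp', ← hB]
  conv_lhs => rw [← B.sum_repr f, LinearMap.sum_apply]
  exact Finset.sum_congr rfl fun i _ => by rw [LinearMap.smul_apply, smul_eq_mul, mul_comm]

/-- A locally regular function on the rational points of an anti-affine group is constant. -/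
theorem const_of_locally {N : Over (Spec (CommRingCat.of k))} [IsReduced N.left] [LocallyOfFiniteType N.hom]
    (hN : Function.Bijective N.hom.appTop) (F : Pt N → k)
    (hF : ∀ g₀ : Pt N, ∃ (O : N.left.Opens) (f : Γ(N.left, O)), im g₀ ∈ O ∧
      ∀ (g : Pt N) (hg : im g ∈ O), val g O hg f = F g) (g g' : Pt N) : F g = F g' := by
  choose O f hO hf using hF
  obtain ⟨F', hF', -⟩ := N.left.sheaf.existsUnique_gluing' O ⊤ (fun _ => homOfLE le_top) (fun x _ => by
      rw [Opens.mem_iSup]
      by_contra hc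
      push Not at hc
      haveI := LocallyOfFiniteType.jacobsonSpace N.hom
      have hcl : IsClosed {z : N.left | ∀ g, z ∉ O g} := by
        rw [Set.ofPred_forall]
        exact isClosed_iInter fun g => (O g).2.isClosed_compl
      obtain ⟨z, hz, hzc⟩ := nonempty_inter_closedPoints (Z := {z : N.left | ∀ g, z ∉ O g}) ⟨x, hc⟩ hcl.isLocallyClosed
      obtain ⟨g, hg⟩ := exists_pt (mem_closedPoints_iff.mp hzc)
      exact hz g (hg ▸ hO g)) f (fun g₁ g₂ => by
    refine sub_eq_zero.mp (eq_zero_of_val _ fun g hg => ?_)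
    rw [map_sub, sub_eq_zero]
    exact (val_res g inf_le_left hg (f g₁)).trans ((hf g₁ g hg.1).trans
      ((val_res g inf_le_right hg (f g₂)).trans (hf g₂ g hg.2)).symm))
  have key : ∀ g : Pt N, val g ⊤ trivial F' = F g := fun g => by
    rw [← hf g g (hO g), ← hF' g]
    exact (val_res g le_top (hO g) F').symm
  obtain ⟨c', hc'⟩ := hN.2 F'
  obtain ⟨c, rfl⟩ : ∃ c : k, (Scheme.ΓSpecIso (CommRingCat.of k)).inv c = c' :=
    ⟨_, (Scheme.ΓSpecIso (CommRingCat.of k)).commRingCatIsoToRingEquiv.symm_apply_apply c'⟩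
  have hc : F' = AModX.resR (le_refl (⊤ : N.left.Opens)) (Coh.toGlobal N.hom c) := by
    rw [AModX.resR_self]; exact hc'.symm
  rw [← key g, ← key g', hc, val_const g (U := ⊤) trivial c, val_const g' (U := ⊤) trivial c]

variable [IsReduced M.left] [LocallyOfFiniteType M.hom]

/-- Non-vanishing of sections is invariant under an anti-affine group fixing the class. -/
theorem ev_ne_zero_trans (hM : Function.Bijective M.hom.appTop)
    (hfix : ∀ g : Pt M, Nonempty ((Scheme.Modules.pullback (trans a g).left).obj L ≅ L))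
    (g₁ : Pt M) (x : Pt X) (v : GS L) (hv : ev hL x v ≠ 0) : ev hL (x ≫ trans a g₁) v ≠ 0 := by
  classical
  obtain ⟨J, _, _, i₀, p, s, q, hpi, hdel, hsum, hq⟩ :=
    exists_frame_pts hL x (fun h => hv (by rw [h]; rfl))
  haveI : Nonempty J := ⟨i₀⟩
  choose φ mu hmu hφ using fun g => (hfix g).elim fun θ => by
    obtain ⟨φ, h⟩ := exists_phi a hL g θ
    choose mu hmu hφ using h
    exact (⟨φ, mu, hmu, hφ⟩ : ∃ (φ : GS L →ₗ[k] GS L) (mu : Pt X → k), (∀ y, mu y ≠ 0) ∧
      ∀ y s, ev hL y (φ s) = mu y * ev hL (y ≫ trans a g) s)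
  let pp : Option J → Pt X := fun l => l.elim q p
  let E : Pt M → Matrix J J k := fun g => Matrix.of fun i j => ev hL (p i ≫ trans a g) (s j)
  let w : Pt M → J → k := fun g j => ev hL (q ≫ trans a g) (s j)
  let T : Pt M → Matrix J J k := fun g => frameMat (E g) (w g)
  have hEdet : ∀ g, (E g).det ≠ 0 := by
    intro g
    refine isUnit_iff_ne_zero.mp ((Matrix.isUnit_iff_isUnit_det _).mp (Matrix.mulVec_injective_iff_isUnit.mp ?_))
    intro c c' hcc
    have hz : φ g (∑ j, (c j - c' j) • s j) = 0 := by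
      have h1 : ∀ i, ev hL (p i) (φ g (∑ j, (c j - c' j) • s j)) = 0 := by
        intro i
        rw [hφ, map_sum]
        have h2 := congrFun hcc i
        simp only [Matrix.mulVec, dotProduct, E, Matrix.of_apply] at h2
        simp only [map_smul, smul_eq_mul, sub_mul, Finset.sum_sub_distrib]
        rw [Finset.sum_congr rfl fun j _ => mul_comm (c j) _, Finset.sum_congr rfl fun j _ => mul_comm (c' j) _, h2,
          sub_self, mul_zero]
      rw [hsum (φ g _), Finset.sum_congr rfl fun j _ => by rw [h1 j, zero_smul]]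
      exact Finset.sum_const_zero
    have hsurj := surjective_phi a hL g (φ := φ g) fun y => ⟨mu g y, hmu g y, hφ g y⟩
    haveI := finite_GS hL
    have hz' : ∑ j, (c j - c' j) • s j = 0 := LinearMap.injective_iff_surjective.mpr hsurj (hz.trans (map_zero _).symm)
    funext i
    have := congrArg (ev hL (p i)) hz'
    simpa [map_sum, hdel, sub_eq_zero] using this
  have hw : ∀ g, ∃ c : J → k, (∀ i, c i ≠ 0) ∧ w g = Matrix.vecMul c (E g) := by
    intro g
    refine ⟨fun i => (mu g q)⁻¹ * (ev hL q (s i) * mu g (p i)), fun i =>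
      mul_ne_zero (inv_ne_zero (hmu g q)) (mul_ne_zero (hq i) (hmu g (p i))), funext fun j => ?_⟩
    simp only [Matrix.vecMul, dotProduct, E, Matrix.of_apply, w]
    refine mul_left_cancel₀ (hmu g q) ?_
    rw [← hφ, Finset.mul_sum]
    conv_lhs => rw [hsum (φ g (s j)), map_sum]
    refine Finset.sum_congr rfl fun i _ => ?_
    rw [map_smul, smul_eq_mul, hφ]
    field_simp [hmu g q]
  have hTdet : ∀ g, (T g).det ≠ 0 := by
    intro g
    obtain ⟨c, hc, hcw⟩ := hw g
    show (frameMat (E g) (w g)).det ≠ 0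
    rw [hcw, det_frameMat_comb]
    exact mul_ne_zero (Finset.prod_ne_zero_iff.mpr fun i _ => mul_ne_zero (hEdet g) (hc i)) (hEdet g)
  have hconst : ∀ (m : J → J × J) (g g' : Pt M),
      (∏ l, T g (m l).1 (m l).2) / (T g).det = (∏ l, T g' (m l).1 (m l).2) / (T g').det := by
    intro m
    refine const_of_locally hM _ fun g₀ => ?_
    choose U hU e he using fun l => InvX.exists_frame hL (im (g₀ ≫ a.orbitMap (pp l)))
    let O₀ : M.left.Opens := Finset.univ.inf fun l => (a.orbitMap (pp l)).left ⁻¹ᵁ U l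
    have hle : ∀ l, O₀ ≤ (a.orbitMap (pp l)).left ⁻¹ᵁ U l := fun l => Finset.inf_le (Finset.mem_univ l)
    have hg₀ : im g₀ ∈ O₀ := Finset.inf_induction (p := fun O : M.left.Opens => im g₀ ∈ O) trivial
      (fun _ h _ h' => ⟨h, h'⟩) fun l _ => hU l
    let A : Option J → J → Γ(M.left, O₀) := fun l j => (a.orbitMap (pp l)).left.appLE (U l) O₀ (hle l)
      (coord (he l) (U l) le_rfl (AModX.res L (le_top : U l ≤ ⊤) (s j)))
    have hA : ∀ (g : Pt M) (hg : im g ∈ O₀) (l : Option J), ∃ c : k, c ≠ 0 ∧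
        ∀ j, val g O₀ hg (A l j) = c * ev hL (pp l ≫ trans a g) (s j) := by
      intro g hg l
      have hmem : im (g ≫ a.orbitMap (pp l)) ∈ U l := hle l hg
      obtain ⟨c, hc, hce⟩ := ev_eq_smul hL (he l) (g ≫ a.orbitMap (pp l)) hmem
      refine ⟨c, hc, fun j => ?_⟩
      simp only [A]
      rw [val_comp g (a.orbitMap (pp l)) (hle l) hg, ← evU_apply (he l) _ hmem, hce, LinearMap.smul_apply, smul_eq_mul,
        comp_orbit]
    let TR : Matrix J J Γ(M.left, O₀) := frameMat (Matrix.of fun i j => A (some i) j) (A none)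
    have hTR : ∀ (g : Pt M) (hg : im g ∈ O₀), ∃ ν : k, ν ≠ 0 ∧ TR.map (val g O₀ hg) = ν • T g := by
      intro g hg
      choose c hc hcA using hA g hg
      refine ⟨c none * ∏ i, c (some i), mul_ne_zero (hc none) (Finset.prod_ne_zero_iff.mpr fun i _ => hc _), ?_⟩
      rw [frameMat_map, ← frameMat_scale]
      congr 1
      · ext i j
        rw [Matrix.map_apply, Matrix.diagonal_mul, Matrix.of_apply, hcA]
        rfl
      · funext j
        exact hcA none j
    let D := TR.det
    have hD : ∀ (g : Pt M) (hg : im g ∈ O₀) (ν : k), TR.map (val g O₀ hg) = ν • T g →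
        val g O₀ hg D = (ν • T g).det := fun g hg ν h => by rw [RingHom.map_det, RingHom.mapMatrix_apply, h]
    let O := M.left.basicOpen D
    have hle' : O ≤ O₀ := M.left.basicOpen_le D
    refine ⟨O, AModX.resR hle' (∏ l, TR (m l).1 (m l).2) * Ring.inverse (AModX.resR hle' D), ?_, fun g hg => ?_⟩
    · obtain ⟨ν, hν, h⟩ := hTR g₀ hg₀
      rw [mem_basicOpen_iff g₀ hg₀, hD g₀ hg₀ ν h, Matrix.det_smul]
      exact mul_ne_zero (pow_ne_zero _ hν) (hTdet g₀)
    · obtain ⟨ν, hν, h⟩ := hTR g (hle' hg)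
      rw [← frameMat_ratio m (T g) ν hν, map_mul, val_res, eq_div_iff (by
        rw [Matrix.det_smul]; exact mul_ne_zero (pow_ne_zero _ hν) (hTdet g)), _root_.mul_assoc, ← hD g (hle' hg) ν h,
        ← val_res g hle' hg D, ← map_mul, Ring.inverse_mul_cancel _ (AModX.isUnit_resR hle' D le_rfl), map_one,
        _root_.mul_one, map_prod]
      exact Finset.prod_congr rfl fun l _ => by rw [← h, Matrix.map_apply]
  obtain ⟨ν, hν⟩ := eq_smul_of_ratio (T g₁) (T (1 : Pt M)) (hTdet _) (hTdet _) fun m => hconst m g₁ 1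
  have hone : ∀ y : Pt X, y ≫ trans a (1 : Pt M) = y := fun y => by
    rw [comp_trans, AlgGrp.Action.lift_one_act]
  have hE1 : E 1 = 1 := by
    ext i j
    simp only [E, Matrix.of_apply]
    rw [hone, hdel, Matrix.one_apply]
  obtain ⟨c, hc, hcw⟩ := hw g₁
  have hrow : ∀ j, j ≠ i₀ → E g₁ i₀ j = 0 := by
    intro j hj
    have h1 : T g₁ i₀ j = 0 := by
      rw [hν, Matrix.smul_apply]
      show ν • frameMat (E 1) (w 1) i₀ j = 0
      rw [hE1, frameMat_one, Matrix.diagonal_apply_ne' _ hj, smul_zero]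
    change frameMat (E g₁) (w g₁) i₀ j = 0 at h1
    rw [hcw, frameMat_comb, Matrix.diagonal_mul, Pi.smul_apply, smul_eq_mul] at h1
    exact (mul_eq_zero.mp h1).resolve_left (mul_ne_zero (hEdet g₁) (hc i₀))
  have hii : E g₁ i₀ i₀ ≠ 0 := by
    intro h0
    refine hEdet g₁ (Matrix.det_eq_zero_of_row_eq_zero i₀ fun j => ?_)
    by_cases hj : j = i₀
    · rw [hj, h0]
    · exact hrow j hj
  have : ev hL (x ≫ trans a g₁) v = E g₁ i₀ i₀ * ev hL x v := by
    conv_lhs => rw [hsum v, map_sum]
    rw [Finset.sum_eq_single i₀]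
    · rw [map_smul, smul_eq_mul, hpi, mul_comm]
      simp only [E, Matrix.of_apply, hpi]
    · intro j _ hj
      rw [map_smul, ← hpi]
      have := hrow j hj
      simp only [E, Matrix.of_apply] at this
      rw [this, smul_zero]
    · exact fun h => absurd (Finset.mem_univ i₀) h
  rw [this]
  exact mul_ne_zero hii hv

end Groth.Agent.AlgGrp25.FixAmple
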