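import Groth.Agent.AmpleX.FiniteSet
import Groth.Agent.InvX.GenLocusPull
import Groth.Agent.QCoh.GodHH
import Groth.Agent.CurveCohLib.Proper
import Groth.Agent.Lib.CurveDeg
import Mathlib.AlgebraicGeometry.AlgClosed.Basic
import Mathlib.LinearAlgebra.Dual.Lemmas

/-! Values of functions and of sections of invertible modules at rational points. -/

universe u

open CategoryTheory AlgebraicGeometry MonoidalCategory CartesianMonoidalCategory TopologicalSpace

set_option linter.style.haveILetI false
set_option backward.isDefEq.respectTransparency false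
set_option backward.isDefEq.respectTransparency.types false

namespace Groth.Agent.AlgGrp25.FixAmple

variable {k : Type u} [Field k] {X Y : Over (Spec (CommRingCat.of k))}

/-- Rational points. -/
abbrev Pt (X : Over (Spec (CommRingCat.of k))) : Type u := 𝟙_ (Over (Spec (CommRingCat.of k))) ⟶ X

/-- The morphism underlying a rational point. -/
noncomputable abbrev sec (y : Pt X) : Spec (CommRingCat.of k) ⟶ X.left := y.left

/-- The image of a rational point. -/
noncomputable abbrev im (y : Pt X) : X.left := sec y (IsLocalRing.closedPoint k)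

theorem top_le_preimage (y : Pt X) {U : X.left.Opens} (h : im y ∈ U) : ⊤ ≤ sec y ⁻¹ᵁ U := fun p _ => by
  rw [Subsingleton.elim (α := PrimeSpectrum k) p (IsLocalRing.closedPoint k)]
  exact h

/-- The value of a function at a rational point. -/
noncomputable def val (y : Pt X) (U : X.left.Opens) (h : im y ∈ U) : Γ(X.left, U) →+* k :=
  ((sec y).appLE U ⊤ (top_le_preimage y h) ≫ (Scheme.ΓSpecIso (CommRingCat.of k)).hom).hom

theorem val_res (y : Pt X) {U V : X.left.Opens} (i : V ≤ U) (h : im y ∈ V) (f : Γ(X.left, U)) :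
    val y V h (AModX.resR i f) = val y U (i h) f := by
  have e := Scheme.Hom.map_appLE (sec y) (top_le_preimage y h) (homOfLE i).op
  exact congrArg (Scheme.ΓSpecIso (CommRingCat.of k)).hom (congrArg (fun q => q.hom f) e)

theorem val_comp (y : Pt X) (f : X ⟶ Y) {U : Y.left.Opens} {W : X.left.Opens} (i : W ≤ f.left ⁻¹ᵁ U)
    (h : im y ∈ W) (c : Γ(Y.left, U)) :
    val y W h (f.left.appLE U W i c) = val (y ≫ f) U (i h) c := by
  have e := Scheme.Hom.appLE_comp_appLE (sec y) f.left U W ⊤ i (top_le_preimage y h)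
  exact congrArg (Scheme.ΓSpecIso (CommRingCat.of k)).hom (congrArg (fun q => q.hom c) e)

theorem mem_basicOpen_iff (y : Pt X) {U : X.left.Opens} (h : im y ∈ U) (g : Γ(X.left, U)) :
    im y ∈ X.left.basicOpen g ↔ val y U h g ≠ 0 := by
  show IsLocalRing.closedPoint k ∈ sec y ⁻¹ᵁ X.left.basicOpen g ↔ _
  rw [Scheme.preimage_basicOpen]
  let g' : Γ(Spec (CommRingCat.of k), ⊤) := (sec y).appLE U ⊤ (top_le_preimage y h) g
  have e : (Spec (CommRingCat.of k)).basicOpen ((sec y).app U g) = (Spec (CommRingCat.of k)).basicOpen g' := by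
    show _ = (Spec (CommRingCat.of k)).basicOpen ((Spec (CommRingCat.of k)).presheaf.map _ ((sec y).app U g))
    rw [Scheme.basicOpen_res, top_inf_eq]
  rw [e, (Spec (CommRingCat.of k)).mem_basicOpen g' _ trivial]
  show _ ↔ (Scheme.ΓSpecIso (CommRingCat.of k)).hom g' ≠ 0
  constructor
  · intro hu h0
    have : g' = 0 := by
      apply (ConcreteCategory.bijective_of_isIso (Scheme.ΓSpecIso (CommRingCat.of k)).hom).1
      rw [h0, map_zero]
    rw [this, map_zero] at hu
    exact not_isUnit_zero hu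
  · intro h0
    have : IsUnit g' := (isUnit_map_iff (Scheme.ΓSpecIso (CommRingCat.of k)).commRingCatIsoToRingEquiv g').mp
      (isUnit_iff_ne_zero.mpr h0)
    exact this.map _

/-- The value of a constant. -/
theorem val_const (y : Pt X) {U : X.left.Opens} (h : im y ∈ U) (c : k) :
    val y U h (AModX.resR (le_top : U ≤ ⊤) (Coh.toGlobal X.hom c)) = c := by
  rw [val_res]
  have hw : sec y ≫ X.hom = 𝟙 _ := Over.w y
  have e : X.hom.appTop ≫ (sec y).appLE ⊤ ⊤ (top_le_preimage y trivial) = 𝟙 _ := by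
    have h2 : (sec y).appLE ⊤ ⊤ (top_le_preimage y trivial) = (sec y).appTop := Scheme.Hom.appLE_eq_app _
    rw [h2, ← Scheme.Hom.comp_appTop, hw]
    rfl
  show (Scheme.ΓSpecIso (CommRingCat.of k)).hom ((sec y).appLE ⊤ ⊤ _ (X.hom.appTop ((Scheme.ΓSpecIso (CommRingCat.of k)).inv c))) = c
  refine (congrArg (Scheme.ΓSpecIso (CommRingCat.of k)).hom (congrArg (fun q => q.hom ((Scheme.ΓSpecIso (CommRingCat.of k)).inv c)) e)).trans ?_
  exact (Scheme.ΓSpecIso (CommRingCat.of k)).commRingCatIsoToRingEquiv.apply_symm_apply c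

section Points

variable [IsAlgClosed k] [LocallyOfFiniteType X.hom]

theorem exists_pt {x : X.left} (hx : IsClosed ({x} : Set X.left)) : ∃ y : Pt X, im y = x := by
  let s := (pointEquivClosedPoint X.hom).symm ⟨x, hx⟩
  refine ⟨Over.homMk s.1 s.2, ?_⟩
  exact congrArg Subtype.val ((pointEquivClosedPoint X.hom).apply_symm_apply ⟨x, hx⟩)

theorem exists_pt_mem {U : X.left.Opens} (hU : (U : Set X.left).Nonempty) : ∃ y : Pt X, im y ∈ U := by
  haveI := LocallyOfFiniteType.jacobsonSpace X.hom
  obtain ⟨x, hxU, hx⟩ := nonempty_inter_closedPoints (Z := (U : Set X.left)) hU U.2.isLocallyClosed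
  obtain ⟨y, hy⟩ := exists_pt (mem_closedPoints_iff.mp hx)
  exact ⟨y, hy ▸ hxU⟩

theorem eq_zero_of_val [IsReduced X.left] {U : X.left.Opens} (f : Γ(X.left, U))
    (h : ∀ (y : Pt X) (hy : im y ∈ U), val y U hy f = 0) : f = 0 := by
  rw [← basicOpen_eq_bot_iff, eq_bot_iff]
  intro x hx
  obtain ⟨y, hy⟩ := exists_pt_mem ⟨x, hx⟩
  exact absurd (h y (X.left.basicOpen_le f hy)) ((mem_basicOpen_iff y _ f).mp hy)

end Points

/-- Global sections as a vector space. -/
def GS (L : X.left.Modules) : Type u := Γ(L, ⊤)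

variable {L : X.left.Modules}

noncomputable instance : AddCommGroup (GS L) := inferInstanceAs (AddCommGroup Γ(L, ⊤))

noncomputable instance : Module k (GS L) := QCoh.secModule (Coh.toGlobal X.hom) L ⊤

theorem GS.smul_def (c : k) (s : GS L) :
    (show Γ(L, ⊤) from c • s) = AModX.resR (le_top : (⊤ : X.left.Opens) ≤ ⊤) (Coh.toGlobal X.hom c) • (show Γ(L, ⊤) from s) := rfl

theorem finite_GS [IsProper X.hom] (hL : PicF.IsInvertible L) : Module.Finite k (GS L) := by
  letI : X.left.Over (Spec (CommRingCat.of k)) := ⟨X.hom⟩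
  haveI : IsProper (X.left ↘ Spec (CommRingCat.of k)) := ‹IsProper X.hom›
  haveI : IsLocallyNoetherian X.left := LocallyOfFiniteType.isLocallyNoetherian X.hom
  have h : @Module.Finite k (Coh.HH X.left L 0) _ _ (QCoh.modHH (Coh.toGlobal X.hom) L 0) :=
    CurveCohLib.finite_HH (k := k) (CurveDeg.isCoh_of_isInvertible hL) 0
  letI := QCoh.modHH (Coh.toGlobal X.hom) L 0
  letI := QCoh.secModule (Coh.toGlobal X.hom) L ⊤
  haveI := h
  exact Module.Finite.equiv (QCoh.secH (Coh.toGlobal X.hom) L).symm

section Eval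

variable {U : X.left.Opens} {e : Γ(L, U)} (he : InvX.IsFrame e)

/-- The coordinate of a section in a frame. -/
noncomputable def coord (V : X.left.Opens) (i : V ≤ U) (s : Γ(L, V)) : Γ(X.left, V) :=
  (he.exists_coord i s).choose

theorem coord_spec (V : X.left.Opens) (i : V ≤ U) (s : Γ(L, V)) : s = coord he V i s • AModX.res L i e :=
  (he.exists_coord i s).choose_spec

theorem coord_eq (V : X.left.Opens) (i : V ≤ U) {s : Γ(L, V)} {r : Γ(X.left, V)} (h : s = r • AModX.res L i e) :
    coord he V i s = r :=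
  he.coord_unique i (by rw [← h, ← coord_spec])

/-- The value at a point of a global section read in a frame. -/
noncomputable def evU (y : Pt X) (h : im y ∈ U) : GS L →ₗ[k] k where
  toFun s := val y U h (coord he U le_rfl (AModX.res L (le_top : U ≤ ⊤) s))
  map_add' s t := by
    rw [← map_add]
    congr 1
    refine coord_eq he U le_rfl ?_
    rw [add_smul, ← coord_spec, ← coord_spec]
    exact map_add _ _ _
  map_smul' c s := by
    show _ = c * _
    conv_rhs => rw [← val_const y h c, ← map_mul]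
    congr 1
    refine coord_eq he U le_rfl ?_
    rw [mul_smul, ← coord_spec]
    show AModX.res L _ (show Γ(L, ⊤) from c • s) = _
    rw [GS.smul_def, AModX.res_smul, AModX.resR_resR]

theorem evU_apply (y : Pt X) (h : im y ∈ U) (s : GS L) :
    evU he y h s = val y U h (coord he U le_rfl (AModX.res L (le_top : U ≤ ⊤) s)) := rfl

theorem evU_eq_smul {U' : X.left.Opens} {e' : Γ(L, U')} (he' : InvX.IsFrame e') (y : Pt X) (h : im y ∈ U)
    (h' : im y ∈ U') : ∃ c : k, c ≠ 0 ∧ evU he y h = c • evU he' y h' := by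
  have hW : im y ∈ U ⊓ U' := ⟨h, h'⟩
  let a := coord he (U ⊓ U') inf_le_left (AModX.res L inf_le_right e')
  let b := coord he' (U ⊓ U') inf_le_right (AModX.res L inf_le_left e)
  have hab : b * a = 1 := he.coord_unique inf_le_left (by
    rw [one_smul, mul_smul, ← coord_spec he, ← coord_spec he'])
  refine ⟨val y _ hW a, fun h0 => ?_, LinearMap.ext fun s => ?_⟩
  · have := congrArg (val y _ hW) hab
    rw [map_mul, h0, mul_zero, map_one] at this
    exact zero_ne_one this
  · show _ = val y _ hW a * _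
    rw [evU_apply, evU_apply, ← val_res y inf_le_left hW, ← val_res y inf_le_right hW, ← map_mul]
    congr 1
    refine he.coord_unique inf_le_left ?_
    have h1 := congrArg (AModX.res L (inf_le_left : U ⊓ U' ≤ U))
      (coord_spec he U le_rfl (AModX.res L (le_top : U ≤ ⊤) s))
    have h2 := congrArg (AModX.res L (inf_le_right : U ⊓ U' ≤ U'))
      (coord_spec he' U' le_rfl (AModX.res L (le_top : U' ≤ ⊤) s))
    rw [AModX.res_smul, AModX.res_res, AModX.res_res] at h1 h2
    rw [← h1, mul_comm, mul_smul, ← coord_spec he, ← h2]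

theorem evU_ne_zero_iff (y : Pt X) (h : im y ∈ U) (s : GS L) :
    evU he y h s ≠ 0 ↔ im y ∈ CohB1.genLocus L (InvX.ofSect s) := by
  have h1 : AModX.res L (le_top : U ≤ ⊤) (InvX.one (InvX.ofSect s)) =
      coord he U le_rfl (AModX.res L (le_top : U ≤ ⊤) s) • e := by
    rw [InvX.one_ofSect]
    have := coord_spec he U le_rfl (AModX.res L (le_top : U ≤ ⊤) s)
    rwa [AModX.res_self] at this
  rw [evU_apply, ← mem_basicOpen_iff, ← InvX.genLocus_inf _ he h1]
  exact ⟨fun h' => h'.1, fun h' => ⟨h', h⟩⟩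

end Eval

variable (hL : PicF.IsInvertible L)

/-- Evaluation at a rational point, in a chosen frame. -/
noncomputable def ev (y : Pt X) : GS L →ₗ[k] k :=
  let h := InvX.exists_frame hL (im y)
  evU h.choose_spec.choose_spec.choose_spec y h.choose_spec.choose

theorem ev_eq_smul {U : X.left.Opens} {e : Γ(L, U)} (he : InvX.IsFrame e) (y : Pt X) (h : im y ∈ U) :
    ∃ c : k, c ≠ 0 ∧ evU he y h = c • ev hL y :=
  evU_eq_smul he _ y h _

theorem ev_ne_zero_iff (y : Pt X) (s : GS L) : ev hL y s ≠ 0 ↔ im y ∈ CohB1.genLocus L (InvX.ofSect s) :=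
  evU_ne_zero_iff _ y _ s

include hL in
theorem eq_zero_of_ev [IsAlgClosed k] [LocallyOfFiniteType X.hom] [IsReduced X.left] (s : GS L)
    (h : ∀ y : Pt X, ev hL y s = 0) : s = 0 := by
  refine AModX.eq_of_locally (M := L) _ _ fun x _ => ?_
  obtain ⟨U, hx, e, he⟩ := InvX.exists_frame hL x
  refine ⟨U, le_top, hx, ?_⟩
  have hc : coord he U le_rfl (AModX.res L (le_top : U ≤ ⊤) s) = 0 := eq_zero_of_val _ fun y hy => by
    obtain ⟨c, -, hc⟩ := ev_eq_smul hL he y hy
    rw [← evU_apply, hc, LinearMap.smul_apply, h y, smul_zero]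
  rw [coord_spec he U le_rfl (AModX.res L (le_top : U ≤ ⊤) s), hc, zero_smul]
  exact (map_zero _).symm

end Groth.Agent.AlgGrp25.FixAmple
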